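import Groth.Agent.BrSev28.ProjPts
import Groth.Agent.Coherent.ProjSpaceBase
import Groth.Prelude.Def_W4c5nonratstablectREq

/-!
# Lines through two points of projective space
-/

set_option autoImplicit false
set_option backward.isDefEq.respectTransparency false
set_option backward.isDefEq.respectTransparency.types false
set_option linter.style.haveILetI false

universe u

open CategoryTheory CategoryTheory.Limits AlgebraicGeometry MvPolynomial HomogeneousLocalization
open Groth.Agent Groth.Agent.ProjLib Groth.Agent.H8Constr Groth.Agent.BrSev28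

namespace Groth.Agent.REqLib17

variable {k : Type u} [CommRing k] {n : ℕ}

/-- The evaluation on a chart at a vector on which the denominator is invertible. -/
noncomputable def ev {S : Type u} [CommRing S] (q : k →+* S) (v : Fin (n + 1) → S) (f : MvPolynomial (Fin (n + 1)) k)
    (hu : IsUnit (eval₂Hom q v f)) : Away (CohB1.polyGrading n k) f →+* S :=
  (IsLocalization.Away.lift f (S := Localization.Away f) hu).comp
    (algebraMap (Away (CohB1.polyGrading n k) f) (Localization.Away f))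

theorem ev_toAway {S : Type u} [CommRing S] (q : k →+* S) (v : Fin (n + 1) → S) (f : MvPolynomial (Fin (n + 1)) k)
    (hu : IsUnit (eval₂Hom q v f)) : (ev q v f hu).comp (toAway n k f) = q := by
  refine RingHom.ext fun r => ?_
  simp only [ev, RingHom.comp_apply, HomogeneousLocalization.algebraMap_apply, val_toAway, IsLocalization.Away.lift_eq,
    eval₂Hom_C]

theorem ev_coord {S : Type u} [CommRing S] (q : k →+* S) (v : Fin (n + 1) → S) (i : Fin (n + 1)) (hv : v i = 1) (l : Fin (n + 1))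
    (hu : IsUnit (eval₂Hom q v (X i))) : ev q v (X i) hu (coord n i l) = v l := by
  have key : ∀ (g : Localization.Away (X i : MvPolynomial (Fin (n + 1)) k) →+* S),
      g (algebraMap (MvPolynomial (Fin (n + 1)) k) _ (X i)) = 1 → ∀ x : MvPolynomial (Fin (n + 1)) k,
      g (Localization.mk x (⟨X i, ⟨1, pow_one _⟩⟩ : Submonoid.powers (X i : MvPolynomial (Fin (n + 1)) k))) = g (algebraMap _ _ x) := by
    intro g hg x
    have := congrArg g (IsLocalization.mk'_spec (Localization.Away (X i : MvPolynomial (Fin (n + 1)) k)) x (⟨X i, ⟨1, pow_one _⟩⟩ : Submonoid.powers (X i : MvPolynomial (Fin (n + 1)) k)))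
    rw [map_mul, hg, mul_one, ← Localization.mk_eq_mk'] at this
    exact this
  simp only [ev, RingHom.comp_apply, HomogeneousLocalization.algebraMap_apply, coord, HomogeneousLocalization.val_mk]
  rw [key _ (by rw [IsLocalization.Away.lift_eq, eval₂Hom_X', hv]) (X l), IsLocalization.Away.lift_eq, eval₂Hom_X']

/-- The chart morphism. -/
noncomputable def evPt {S : Type u} [CommRing S] (q : k →+* S) (v : Fin (n + 1) → S) (f : MvPolynomial (Fin (n + 1)) k)
    {d : ℕ} (hf : f ∈ CohB1.polyGrading n k d) (hd : 0 < d) (hu : IsUnit (eval₂Hom q v f)) :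
    Spec (CommRingCat.of S) ⟶ CohB1.ProjSpace n k :=
  Spec.map (CommRingCat.ofHom (ev q v f hu)) ≫ Proj.awayι (CohB1.polyGrading n k) f hf hd

theorem evPt_toSpec {S : Type u} [CommRing S] (q : k →+* S) (v : Fin (n + 1) → S) (f : MvPolynomial (Fin (n + 1)) k)
    {d : ℕ} (hf : f ∈ CohB1.polyGrading n k d) (hd : 0 < d) (hu : IsUnit (eval₂Hom q v f)) :
    evPt q v f hf hd hu ≫ CohB1.ProjSpace.toSpec n k = Spec.map (CommRingCat.ofHom q) := by
  refine (Category.assoc _ _ _).trans ?_
  refine (congrArg (fun g => Spec.map (CommRingCat.ofHom (ev q v f hu)) ≫ g) (awayι_toSpec n k hf hd)).trans ?_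
  rw [← Spec.map_comp, ← CommRingCat.ofHom_comp, ev_toAway]

theorem evPt_comp {S T : Type u} [CommRing S] [CommRing T] (φ : S →+* T) (q : k →+* S) (v : Fin (n + 1) → S)
    (f : MvPolynomial (Fin (n + 1)) k) {d : ℕ} (hf : f ∈ CohB1.polyGrading n k d) (hd : 0 < d)
    (hu : IsUnit (eval₂Hom q v f)) (q' : k →+* T) (v' : Fin (n + 1) → T) (hq : φ.comp q = q') (hv : ∀ l, φ (v l) = v' l)
    (hu' : IsUnit (eval₂Hom q' v' f)) :
    Spec.map (CommRingCat.ofHom φ) ≫ evPt q v f hf hd hu = evPt q' v' f hf hd hu' := by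
  rw [evPt, evPt, ← Category.assoc, ← Spec.map_comp, ← CommRingCat.ofHom_comp]
  congr 3
  simp only [ev, ← RingHom.comp_assoc]
  congr 1
  refine IsLocalization.ringHom_ext (Submonoid.powers f) ?_
  rw [RingHom.comp_assoc, IsLocalization.Away.lift_comp, IsLocalization.Away.lift_comp]
  exact MvPolynomial.ringHom_ext (fun r => by simp [← hq]) (fun l => by simp [hv l])

theorem evPt_change {S : Type u} [CommRing S] (q : k →+* S) (v : Fin (n + 1) → S) (f g : MvPolynomial (Fin (n + 1)) k)
    (hf : f ∈ CohB1.polyGrading n k 1) (hg : g ∈ CohB1.polyGrading n k 1)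
    (hu : IsUnit (eval₂Hom q v f)) (hu' : IsUnit (eval₂Hom q v g)) :
    evPt q v f hf one_pos hu = evPt q v g hg one_pos hu' := by
  have hfg : IsUnit (eval₂Hom q v (f * g)) := by rw [map_mul]; exact hu.mul hu'
  have e₁ : ev q v f hu = (ev q v (f * g) hfg).comp (awayMap (CohB1.polyGrading n k) hg (rfl : f * g = f * g)) := by
    refine RingHom.ext fun x => ?_
    simp only [ev, RingHom.comp_apply, HomogeneousLocalization.algebraMap_apply, val_awayMap]
    refine RingHom.congr_fun (?_ : _ = (IsLocalization.Away.lift (f * g) hfg).comp _) x.val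
    refine IsLocalization.ringHom_ext (Submonoid.powers f) ?_
    rw [RingHom.comp_assoc, Localization.awayLift, IsLocalization.Away.lift_comp, IsLocalization.Away.lift_comp,
      IsLocalization.Away.lift_comp]
  have e₂ : ev q v g hu' = (ev q v (f * g) hfg).comp (awayMap (CohB1.polyGrading n k) hf (mul_comm f g : f * g = g * f)) := by
    refine RingHom.ext fun x => ?_
    simp only [ev, RingHom.comp_apply, HomogeneousLocalization.algebraMap_apply, val_awayMap]
    refine RingHom.congr_fun (?_ : _ = (IsLocalization.Away.lift (f * g) hfg).comp _) x.val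
    refine IsLocalization.ringHom_ext (Submonoid.powers g) ?_
    rw [RingHom.comp_assoc, Localization.awayLift, IsLocalization.Away.lift_comp, IsLocalization.Away.lift_comp,
      IsLocalization.Away.lift_comp]
  rw [evPt, evPt, e₁, e₂, CommRingCat.ofHom_comp, CommRingCat.ofHom_comp, Spec.map_comp, Spec.map_comp,
    Category.assoc, Category.assoc, Proj.SpecMap_awayMap_awayι, Proj.SpecMap_awayMap_awayι]

/-- Field valued points have coordinates. -/
theorem exists_coords {K : Type u} [Field K] (q : k →+* K) (z : Spec (CommRingCat.of K) ⟶ CohB1.ProjSpace n k)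
    (hz : z ≫ CohB1.ProjSpace.toSpec n k = Spec.map (CommRingCat.ofHom q)) :
    ∃ (i : Fin (n + 1)) (v : Fin (n + 1) → K), v i = 1 ∧
      ∀ hu, z = evPt q v (X i) (X_mem_polyGrading n k i) one_pos hu := by
  obtain ⟨x⟩ : Nonempty ↥(Spec (CommRingCat.of K)) := inferInstanceAs (Nonempty (PrimeSpectrum K))
  obtain ⟨i, hi⟩ := TopologicalSpace.Opens.mem_iSup.mp
    ((iSup_basicOpen_X n k).ge (TopologicalSpace.Opens.mem_top (z x)))
  let ι : Spec (CommRingCat.of (Away (CohB1.polyGrading n k) (X i))) ⟶ CohB1.ProjSpace n k :=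
    Proj.awayι (CohB1.polyGrading n k) (X i) (X_mem_polyGrading n k i) one_pos
  haveI : IsOpenImmersion ι := inferInstanceAs (IsOpenImmersion (Proj.awayι _ _ _ _))
  have hr : Set.range z ⊆ Set.range ι := by
    rintro _ ⟨w, rfl⟩
    haveI : Subsingleton ↥(Spec (CommRingCat.of K)) := inferInstanceAs (Subsingleton (PrimeSpectrum K))
    rw [Subsingleton.elim w x]
    have e := Proj.opensRange_awayι (CohB1.polyGrading n k) (X i) (X_mem_polyGrading n k i) one_pos
    exact (show _ ∈ (Proj.awayι (CohB1.polyGrading n k) (X i) (X_mem_polyGrading n k i) one_pos).opensRange from e ▸ hi)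
  obtain ⟨a, ha⟩ := Spec.map_surjective (IsOpenImmersion.lift ι z hr)
  have hl : Spec.map a ≫ ι = z := by rw [ha]; exact IsOpenImmersion.lift_fac _ _ _
  have h₀ : a.hom.comp (toAway n k (X i)) = q := by
    have e : CommRingCat.ofHom (a.hom.comp (toAway n k (X i))) = CommRingCat.ofHom q := by
      apply Spec.map_injective
      have h1 : Spec.map (CommRingCat.ofHom (toAway n k (X i))) = ι ≫ CohB1.ProjSpace.toSpec n k :=
        (awayι_toSpec n k (X_mem_polyGrading n k i) one_pos).symm
      rw [CommRingCat.ofHom_comp, Spec.map_comp, CommRingCat.ofHom_hom, h1, ← Category.assoc, hl, hz]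
    exact congrArg CommRingCat.Hom.hom e
  let v := fun l => a.hom (coord n i l)
  have hvi : v i = 1 := (congrArg a.hom (coord_self n i)).trans (map_one _)
  refine ⟨i, v, hvi, fun hu => ?_⟩
  have ea : a.hom = ev q v (X i) hu :=
    away_hom_ext n i (h₀.trans (ev_toAway q v (X i) hu).symm) fun l => (ev_coord q v i hvi l hu).symm
  rw [← hl, evPt, ← ea, CommRingCat.ofHom_hom]

/-- A linear form nonvanishing at two given points. -/
theorem exists_form {K : Type u} [Field K] (q : k →+* K) (v w : Fin (n + 1) → K) (i j : Fin (n + 1)) (hv : v i = 1)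
    (hw : w j = 1) : ∃ f ∈ CohB1.polyGrading n k 1, eval₂Hom q v f ≠ 0 ∧ eval₂Hom q w f ≠ 0 := by
  by_cases h1 : w i = 0
  · by_cases h2 : v j = 0
    · refine ⟨X i + X j, Submodule.add_mem _ (X_mem_polyGrading n k i) (X_mem_polyGrading n k j), ?_, ?_⟩ <;>
        simp [h1, h2, hv, hw]
    · exact ⟨X j, X_mem_polyGrading n k j, by simpa using h2, by simp [hw]⟩
  · exact ⟨X i, X_mem_polyGrading n k i, by simp [hv], by simpa using h1⟩

/-- A curve through two points. -/
theorem exists_curve {K : Type u} [Field K] (q : k →+* K)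
    (z z' : Spec (CommRingCat.of K) ⟶ CohB1.ProjSpace n k)
    (hz : z ≫ CohB1.ProjSpace.toSpec n k = Spec.map (CommRingCat.ofHom q))
    (hz' : z' ≫ CohB1.ProjSpace.toSpec n k = Spec.map (CommRingCat.ofHom q)) :
    ∃ (g : Polynomial K) (φ₀ φ₁ : Localization.Away g →+* K)
      (h : Spec (CommRingCat.of (Localization.Away g)) ⟶ CohB1.ProjSpace n k),
      (φ₀.comp ((algebraMap (Polynomial K) (Localization.Away g)).comp Polynomial.C) = RingHom.id K) ∧
      (φ₁.comp ((algebraMap (Polynomial K) (Localization.Away g)).comp Polynomial.C) = RingHom.id K) ∧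
      h ≫ CohB1.ProjSpace.toSpec n k =
        Spec.map (CommRingCat.ofHom ((algebraMap (Polynomial K) (Localization.Away g)).comp (Polynomial.C.comp q))) ∧
      Spec.map (CommRingCat.ofHom φ₀) ≫ h = z ∧ Spec.map (CommRingCat.ofHom φ₁) ≫ h = z' := by
  obtain ⟨i, v, hvi, hzv⟩ := exists_coords q z hz
  obtain ⟨j, w, hwj, hzw⟩ := exists_coords q z' hz'
  obtain ⟨f, hf, hfv, hfw⟩ := exists_form q v w i j hvi hwj
  let c : Fin (n + 1) → Polynomial K := fun l => (1 - Polynomial.X) * Polynomial.C (v l) + Polynomial.X * Polynomial.C (w l)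
  let g : Polynomial K := eval₂Hom (Polynomial.C.comp q) c f
  have hev : ∀ t : K, Polynomial.eval t g = eval₂Hom q (fun l => (1 - t) * v l + t * w l) f := fun t => by
    have : (Polynomial.evalRingHom t).comp (eval₂Hom (Polynomial.C.comp q) c) =
        eval₂Hom q (fun l => (1 - t) * v l + t * w l) :=
      MvPolynomial.ringHom_ext (fun r => by simp) (fun l => by simp [c]; ring)
    exact RingHom.congr_fun this f
  have h0 : IsUnit (Polynomial.evalRingHom 0 g) := by
    rw [Polynomial.coe_evalRingHom, hev]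
    simpa using hfv
  have h1 : IsUnit (Polynomial.evalRingHom 1 g) := by
    rw [Polynomial.coe_evalRingHom, hev]
    simpa using hfw
  let S := Localization.Away g
  let qS : k →+* S := (algebraMap (Polynomial K) S).comp (Polynomial.C.comp q)
  let u : Fin (n + 1) → S := fun l => algebraMap (Polynomial K) S (c l)
  have hu : IsUnit (eval₂Hom qS u f) := by
    have : (algebraMap (Polynomial K) S).comp (eval₂Hom (Polynomial.C.comp q) c) = eval₂Hom qS u :=
      MvPolynomial.ringHom_ext (fun r => by simp [qS]) (fun l => by simp [u])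
    rw [← this]
    exact IsLocalization.Away.algebraMap_isUnit g
  let φ₀ : S →+* K := IsLocalization.Away.lift g h0
  let φ₁ : S →+* K := IsLocalization.Away.lift g h1
  refine ⟨g, φ₀, φ₁, evPt qS u f hf one_pos hu, ?_, ?_, evPt_toSpec _ _ _ _ _ _, ?_, ?_⟩
  · exact RingHom.ext fun r => by simp [φ₀]
  · exact RingHom.ext fun r => by simp [φ₁]
  · rw [evPt_comp φ₀ qS u f hf one_pos hu q v (RingHom.ext fun r => by simp [φ₀, qS]) (fun l => by simp [φ₀, u, c])
      (IsUnit.mk0 _ hfv), hzv (by simp [hvi]), evPt_change q v f (X i) hf (X_mem_polyGrading n k i) _ _]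
  · rw [evPt_comp φ₁ qS u f hf one_pos hu q w (RingHom.ext fun r => by simp [φ₁, qS]) (fun l => by simp [φ₁, u, c])
      (IsUnit.mk0 _ hfw), hzw (by simp [hwj]), evPt_change q w f (X j) hf (X_mem_polyGrading n k j) _ _]

/-- Projective space over an affine base as a `Proj`. -/
theorem exists_projOverIso (m : ℕ) (R : Type u) [CommRing R] :
    ∃ e : CohB1.ProjSpaceOver m (Spec (CommRingCat.of R)) ≅ CohB1.ProjSpace m R,
      e.hom ≫ CohB1.ProjSpace.toSpec m R = CohB1.ProjSpaceOver.toBase m (Spec (CommRingCat.of R)) := by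
  letI : Algebra (ULift.{u} ℤ) R := ((Int.castRingHom R).comp ULift.ringEquiv.toRingHom).toAlgebra
  have h' := Coherent.isPullback_projSpace m (ULift.{u} ℤ) R
  have hm : Spec.map (CommRingCat.ofHom (algebraMap (ULift.{u} ℤ) R)) =
      specULiftZIsTerminal.from (Spec (CommRingCat.of R)) := specULiftZIsTerminal.hom_ext _ _
  rw [hm] at h'
  exact ⟨(IsPullback.of_hasPullback _ _).isoIsPullback _ _ h', IsPullback.isoIsPullback_hom_snd _ _ _ _⟩

/-- The affine line in the projective line. -/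
theorem exists_affineLine (K : Type u) [Field K] :
    ∃ j : Spec (CommRingCat.of (Polynomial K)) ⟶ REq.P1K K, IsOpenImmersion j ∧
      j ≫ REq.P1K.toSpec K = Spec.map (CommRingCat.ofHom (Polynomial.C : K →+* Polynomial K)) := by
  obtain ⟨e, he⟩ := exists_projOverIso 1 K
  let R := Away (CohB1.polyGrading 1 K) (X (0 : Fin 2))
  haveI : Unique {j : Fin 2 // j ≠ 0} := ⟨⟨⟨1, by decide⟩⟩, fun ⟨x, hx⟩ => Subtype.ext (by
      show x = (⟨1, by decide⟩ : Fin 2)
      ext; have := Fin.val_ne_iff.2 hx; simp at this ⊢; omega)⟩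
  let σ : Polynomial K ≃+* R :=
    (MvPolynomial.uniqueAlgEquiv K {j : Fin 2 // j ≠ 0}).symm.toRingEquiv.trans
      (RingEquiv.ofBijective (chartHom 1 K 0) (chartHom_bijective 1 K 0))
  let ι : Spec (CommRingCat.of R) ⟶ CohB1.ProjSpace 1 K :=
    Proj.awayι (CohB1.polyGrading 1 K) (X 0) (X_mem_polyGrading 1 K 0) one_pos
  haveI : IsOpenImmersion ι := inferInstanceAs (IsOpenImmersion (Proj.awayι _ _ _ _))
  haveI : IsIso (CommRingCat.ofHom σ.symm.toRingHom) := ⟨CommRingCat.ofHom σ.toRingHom, CommRingCat.hom_ext (RingHom.ext fun x => σ.apply_symm_apply x),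
    CommRingCat.hom_ext (RingHom.ext fun x => σ.symm_apply_apply x)⟩
  refine ⟨Spec.map (CommRingCat.ofHom σ.symm.toRingHom) ≫ ι ≫ e.inv, inferInstance, ?_⟩
  have h1 : (e.inv ≫ REq.P1K.toSpec K) = CohB1.ProjSpace.toSpec 1 K := by
    rw [Iso.inv_comp_eq]
    exact he.symm
  rw [Category.assoc, Category.assoc, h1, awayι_toSpec 1 K (X_mem_polyGrading 1 K 0) one_pos, ← Spec.map_comp,
    ← CommRingCat.ofHom_comp]
  congr 2
  refine RingHom.ext fun r => ?_
  show σ.symm (toAway 1 K (X 0) r) = Polynomial.C r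
  rw [RingEquiv.symm_apply_eq]
  simp [σ, chartHom]
  exact (eval₂Hom_C _ _ r).symm

theorem elemLink_of_opens (k : Type u) [Field k] (n : ℕ)
    (V : (CohB1.ProjSpaceOver n (Spec (CommRingCat.of k))).Opens) (K : Type u) [Field K] [Algebra k K]
    (A B : REq.Pts (V.ι ≫ CohB1.ProjSpaceOver.toBase n (Spec (CommRingCat.of k))) K) :
    REq.ElemLink (V.ι ≫ CohB1.ProjSpaceOver.toBase n (Spec (CommRingCat.of k))) K A B := by
  obtain ⟨e, he⟩ := exists_projOverIso n k
  obtain ⟨j, hj, hjs⟩ := exists_affineLine K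
  have hA : A.1 ≫ V.ι ≫ CohB1.ProjSpaceOver.toBase n (Spec (CommRingCat.of k)) = REq.specMap k K := A.2
  have hB : B.1 ≫ V.ι ≫ CohB1.ProjSpaceOver.toBase n (Spec (CommRingCat.of k)) = REq.specMap k K := B.2
  obtain ⟨g, φ₀, φ₁, h, hc₀, hc₁, hh, h₀, h₁⟩ := exists_curve (n := n) (algebraMap k K) (A.1 ≫ V.ι ≫ e.hom) (B.1 ≫ V.ι ≫ e.hom)
    (by simp only [Category.assoc, he]; exact hA) (by simp only [Category.assoc, he]; exact hB)
  let S := Localization.Away g
  let l : Spec (CommRingCat.of S) ⟶ Spec (CommRingCat.of (Polynomial K)) :=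
    Spec.map (CommRingCat.ofHom (algebraMap (Polynomial K) S))
  haveI : IsOpenImmersion l := IsOpenImmersion.of_isLocalization (R := Polynomial K) g
  haveI := hj
  let W : (Spec (CommRingCat.of S)).Opens := (h ≫ e.inv) ⁻¹ᵁ V
  let ι' : (W : Scheme.{u}) ⟶ REq.P1K K := W.ι ≫ l ≫ j
  let U := ι'.opensRange
  let θ : (W : Scheme.{u}) ≅ (U : Scheme.{u}) := ι'.isoOpensRange
  let hW : (W : Scheme.{u}) ⟶ (V : Scheme.{u}) := IsOpenImmersion.lift V.ι (W.ι ≫ h ≫ e.inv) (by
    rintro _ ⟨w, rfl⟩
    rw [Scheme.Opens.range_ι]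
    exact w.2)
  have hWfac : hW ≫ V.ι = W.ι ≫ h ≫ e.inv := IsOpenImmersion.lift_fac _ _ _
  have pt : ∀ (φ : S →+* K) (C : Spec (CommRingCat.of K) ⟶ (V : Scheme.{u})),
      φ.comp ((algebraMap (Polynomial K) S).comp Polynomial.C) = RingHom.id K →
      Spec.map (CommRingCat.ofHom φ) ≫ h = C ≫ V.ι ≫ e.hom →
      ∃ a : Spec (CommRingCat.of K) ⟶ (U : Scheme.{u}),
        a ≫ U.ι ≫ REq.P1K.toSpec K = 𝟙 _ ∧ a ≫ θ.inv ≫ hW = C := by
    intro φ C hφ hC
    have hC' : Spec.map (CommRingCat.ofHom φ) ≫ h ≫ e.inv = C ≫ V.ι := by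
      rw [← Category.assoc, hC, Category.assoc, Category.assoc, e.hom_inv_id, Category.comp_id]
    have hr : Set.range (Spec.map (CommRingCat.ofHom φ)) ⊆ Set.range W.ι := by
      rintro _ ⟨w, rfl⟩
      rw [Scheme.Opens.range_ι]
      show ((Spec.map (CommRingCat.ofHom φ) ≫ h ≫ e.inv) w) ∈ V
      rw [hC']
      exact (C w).2
    let a' := IsOpenImmersion.lift W.ι (Spec.map (CommRingCat.ofHom φ)) hr
    have ha' : a' ≫ W.ι = Spec.map (CommRingCat.ofHom φ) := IsOpenImmersion.lift_fac _ _ _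
    refine ⟨a' ≫ θ.hom, ?_, ?_⟩
    · have h2 : θ.hom ≫ U.ι = ι' := Scheme.Hom.isoOpensRange_hom_ι _
      rw [Category.assoc, reassoc_of% h2]
      simp only [ι', Category.assoc]
      rw [reassoc_of% ha', hjs, ← Spec.map_comp, ← Spec.map_comp, ← CommRingCat.ofHom_comp, ← CommRingCat.ofHom_comp, hφ]
      exact Spec.map_id _
    · rw [← cancel_mono V.ι]
      simp only [Category.assoc, θ.hom_inv_id_assoc, hWfac]
      rw [reassoc_of% ha', hC']
  obtain ⟨a, ha, ha₂⟩ := pt φ₀ A.1 hc₀ h₀
  obtain ⟨b, hb, hb₂⟩ := pt φ₁ B.1 hc₁ h₁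
  refine ⟨U, θ.inv ≫ hW, a, b, ?_, ha, hb, ha₂, hb₂⟩
  have h2 : U.ι = θ.inv ≫ ι' := (Scheme.Hom.isoOpensRange_inv_comp _).symm
  have he' : e.inv ≫ CohB1.ProjSpaceOver.toBase n (Spec (CommRingCat.of k)) = CohB1.ProjSpace.toSpec n k := by
    rw [Iso.inv_comp_eq, he]
  rw [h2, Category.assoc, Category.assoc, reassoc_of% hWfac, he', hh]
  refine congrArg (θ.inv ≫ ·) ?_
  simp only [ι', Category.assoc]
  rw [reassoc_of% hjs]
  refine congrArg (W.ι ≫ ·) ?_
  show _ = Spec.map _ ≫ Spec.map _ ≫ Spec.map _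
  rw [← Spec.map_comp, ← Spec.map_comp]
  rfl

end Groth.Agent.REqLib17
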